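import Groth.Agent.RefHullLib.Reflexive
import Groth.Agent.Ref1.Stalks
import Groth.Agent.Ref1.Generic
import Groth.Agent.Ref1.Points
import Groth.Prelude.Def_RefHull
import Mathlib

/-!
# Extension of a generic linear map into the reflexive hull
-/

set_option autoImplicit false
set_option backward.isDefEq.respectTransparency false

universe u

open CategoryTheory AlgebraicGeometry TopologicalSpace

namespace Groth.Agent.RefExtend

open Ref1

theorem finite_stalk {X : Scheme.{u}} [IsLocallyNoetherian X] {F : X.Modules} (hF : Coh.IsCoh F) (x : X) :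
    Module.Finite (X.presheaf.stalk x) (F.presheaf.stalk x) := by
  classical
  have hqc := hF.1
  obtain ⟨_, ⟨U, hU, rfl⟩, hxU, -⟩ :=
    X.isBasis_affineOpens.exists_subset_of_mem_open (Set.mem_univ x) isOpen_univ
  have := (QCohLib.isCoh_iff.mp hF).2 ⟨U, hU⟩
  obtain ⟨t, ht⟩ := (Module.Finite.fg_top : (⊤ : Submodule Γ(X, U) Γ(F, U)).FG)
  refine ⟨⟨t.image (F.presheaf.germ U x hxU), eq_top_iff.mpr fun m _ => ?_⟩⟩
  obtain ⟨f, s, hxf, hfs⟩ := QCohLib.exists_smul_eq_germ hU x hxU m
  have hs : F.presheaf.germ U x hxU s ∈ Submodule.span (X.presheaf.stalk x)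
      (↑(t.image (F.presheaf.germ U x hxU)) : Set (F.presheaf.stalk x)) := by
    suffices ∀ k ∈ Submodule.span Γ(X, U) (t : Set Γ(F, U)), F.presheaf.germ U x hxU k ∈
        Submodule.span (X.presheaf.stalk x) (↑(t.image (F.presheaf.germ U x hxU)) : Set (F.presheaf.stalk x)) from
      this s (ht ▸ Submodule.mem_top)
    intro k hk
    induction hk using Submodule.span_induction with
    | mem k hk => exact Submodule.subset_span (Finset.mem_coe.mpr (Finset.mem_image_of_mem _ hk))
    | zero => rw [map_zero]; exact zero_mem _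
    | add _ _ _ _ h1 h2 => rw [map_add]; exact add_mem h1 h2
    | smul r _ _ h => rw [QCohLib.germ_smul]; exact Submodule.smul_mem _ _ h
  obtain ⟨v, hv⟩ := (X.mem_basicOpen f x hxU).mp hxf
  rw [← hfs, ← hv] at hs
  have := Submodule.smul_mem _ (↑v⁻¹ : X.presheaf.stalk x) hs
  rwa [smul_smul, Units.inv_mul, one_smul] at this

/-- Over a PID a finite module surjects onto its double dual. -/
theorem eval_surjective {R M : Type*} [CommRing R] [IsDomain R] [IsPrincipalIdealRing R] [AddCommGroup M]
    [Module R M] [Module.Finite R M] : Function.Surjective (Module.Dual.eval R M) := by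
  let T := Submodule.torsion R M
  haveI : Module.Free R (M ⧸ T) := Module.free_of_finite_type_torsion_free'
  let p : M →ₗ[R] M ⧸ T := T.mkQ
  have hinj : Function.Injective p.dualMap := LinearMap.dualMap_injective_of_surjective T.mkQ_surjective
  have hbij : Function.Bijective p.dualMap := ⟨hinj, fun φ => ⟨T.liftQ φ fun m hm => by
    obtain ⟨a, ha⟩ := hm
    have h0 : (a : R) • φ m = 0 := by rw [← map_smul]; exact (congrArg φ ha).trans (map_zero φ)
    exact (smul_eq_zero.mp h0).resolve_left (nonZeroDivisors.coe_ne_zero a), LinearMap.ext fun m => rfl⟩⟩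
  intro ψ
  obtain ⟨q, hq⟩ := (Module.IsReflexive.bijective_dual_eval' (R := R) (M := M ⧸ T)).2 (ψ.comp p.dualMap)
  obtain ⟨m, rfl⟩ := T.mkQ_surjective q
  refine ⟨m, LinearMap.ext fun φ => ?_⟩
  obtain ⟨φ', rfl⟩ := hbij.2 φ
  exact LinearMap.congr_fun hq φ'

variable {X : Scheme.{u}} [IsLocallyNoetherian X] {F : X.Modules}

theorem bidualAt_surjective (hF : Coh.IsCoh F) (x : X) [IsDomain (X.presheaf.stalk x)]
    [IsPrincipalIdealRing (X.presheaf.stalk x)] : Function.Surjective (RefHull.bidualAt F x) := by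
  haveI := finite_stalk hF x
  let e := LinearEquiv.ofBijective _
    (Ref1.evalStalk_bijective F (Coh.structureModule X) (QCohLib.isCoh_iff_isFP.mp hF) x)
  intro ψ
  let E := RefHullLib.unitEquiv (X := X) x
  let ψ' : Module.Dual (X.presheaf.stalk x) (Module.Dual (X.presheaf.stalk x) (F.presheaf.stalk x)) :=
    E.symm.toLinearMap ∘ₗ ψ ∘ₗ e.symm.toLinearMap ∘ₗ
      (LinearEquiv.congrRight E : Module.Dual (X.presheaf.stalk x) (F.presheaf.stalk x) ≃ₗ[X.presheaf.stalk x] _).toLinearMap
  obtain ⟨v, hv⟩ := eval_surjective ψ'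
  refine ⟨v, LinearMap.ext fun θ => ?_⟩
  have h := LinearMap.congr_fun hv (E.symm.toLinearMap ∘ₗ e θ)
  have h' : (LinearEquiv.congrRight E : Module.Dual (X.presheaf.stalk x) (F.presheaf.stalk x) ≃ₗ[X.presheaf.stalk x] _)
      (E.symm.toLinearMap ∘ₗ e θ) = e θ := LinearMap.ext fun w => E.apply_symm_apply _
  simp only [Module.Dual.eval_apply, ψ', LinearMap.comp_apply, LinearEquiv.coe_coe] at h
  rw [h', e.symm_apply_apply] at h
  exact E.symm.injective h

variable [IsIntegral X]

theorem bidualAt_injective_generic (hF : Coh.IsCoh F) :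
    Function.Injective (RefHull.bidualAt F (genericPoint ↥X)) := by
  haveI := finite_stalk hF (genericPoint ↥X)
  letI : Field (X.presheaf.stalk (genericPoint ↥X)) := inferInstanceAs (Field X.functionField)
  exact ((RefHullLib.bijective_bidualAt_iff F hF (genericPoint ↥X)).mpr
    (show Module.IsReflexive _ _ from inferInstance)).1

theorem sp_structure_injective (x : X) : Function.Injective (sp (Coh.structureModule X) x) := by
  refine (injective_iff_map_eq_zero _).mpr fun w hw => ?_
  obtain ⟨a, rfl⟩ := unit_stalk_exists x w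
  rw [sp_smul, sp_one] at hw
  have := unit_stalk_free (genericPoint ↥X) _ hw
  rw [algebraMap_stalk_injective x (this.trans (map_zero _).symm), zero_smul]

section Extend

variable (hX : Pi1.IsNormalScheme X) (hF : Coh.IsCoh F) {G : X.Modules}
  (T : ↑(G.presheaf.stalk (genericPoint ↥X)) →ₗ[↑(X.presheaf.stalk (genericPoint ↥X))]
      ↑(F.presheaf.stalk (genericPoint ↥X)))

/-- `θ ↦` value of `θ` at `T g` in the generic stalk. -/
noncomputable def gval (x : X) (g : G.presheaf.stalk x) (θ : (RefHull.dual F).presheaf.stalk x) :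
    (Coh.structureModule X).presheaf.stalk (genericPoint ↥X) :=
  RefHull.evalStalk F (Coh.structureModule X) (genericPoint ↥X) (sp (RefHull.dual F) x θ) (T (sp G x g))

variable (hT : ∀ y : X, Order.coheight y = 1 → ∀ g : G.presheaf.stalk y, T (sp G y g) ∈ Set.range (sp F y))

include hX hT in
theorem exists_gval_eq (x : X) (g : G.presheaf.stalk x) (θ : (RefHull.dual F).presheaf.stalk x) :
    ∃ c, sp (Coh.structureModule X) x c = gval T x g θ := by
  obtain ⟨a, ha⟩ := unit_stalk_exists _ (gval T x g θ)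
  have : a ∈ Set.range (algebraMap (X.presheaf.stalk x) X.functionField) := by
    refine mem_range_of_forall_coheight_one hX x a fun y hyx hy => ?_
    obtain ⟨u, hu⟩ := hT y hy (G.presheaf.stalkSpecializes hyx g)
    rw [sp_specializes] at hu
    have h1 : sp (Coh.structureModule X) y (RefHull.evalStalk F (Coh.structureModule X) y
        ((RefHull.dual F).presheaf.stalkSpecializes hyx θ) u) = gval T x g θ := by
      rw [← evalStalk_sp, hu, sp_specializes]; rfl
    obtain ⟨b, hb⟩ := unit_stalk_exists y (RefHull.evalStalk F (Coh.structureModule X) y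
        ((RefHull.dual F).presheaf.stalkSpecializes hyx θ) u)
    rw [hb, sp_smul, sp_one, ha] at h1
    exact ⟨b, (unit_stalk_bijective (genericPoint ↥X)).1 h1⟩
  obtain ⟨a', rfl⟩ := this
  exact ⟨a' • one x, by rw [sp_smul, sp_one, ha]⟩

include hX hF hT in
theorem exists_hom : ∃ ψ : G ⟶ RefHull.ddual F, ∀ (x : X) (g : G.presheaf.stalk x)
    (θ : (RefHull.dual F).presheaf.stalk x),
      sp (Coh.structureModule X) x (RefHull.evalStalk (RefHull.dual F) (Coh.structureModule X) x
        (QCohLib.stalkHom ψ x g) θ) = gval T x g θ := by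
  choose c hc using exists_gval_eq hX T hT
  let L : ∀ x, G.presheaf.stalk x → RefHull.StalkHom (RefHull.dual F) (Coh.structureModule X) x := fun x g =>
    { toFun := c x g
      map_add' := fun θ θ' => sp_structure_injective x (by
        rw [map_add, hc, hc, hc, gval, gval, gval, map_add, map_add, LinearMap.add_apply])
      map_smul' := fun a θ => sp_structure_injective x (by
        rw [RingHom.id_apply, hc, sp_smul, hc, gval, gval, sp_smul, map_smul]; rfl) }
  have hL : ∀ x g θ, sp (Coh.structureModule X) x (L x g θ) = gval T x g θ := hc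
  have hsec : ∀ (U : X.Opens) (m : Γ(G, U)), RefHull.IsLocSect (RefHull.dual F) (Coh.structureModule X)
      fun y : U => L y.1 (G.presheaf.germ U y.1 y.2 m) := by
    intro U m V i p x
    obtain ⟨W, hxW, n, hn⟩ := (Coh.structureModule X).presheaf.exists_germ_eq
      (L x.1 (G.presheaf.germ U x.1 (i.le x.2) m) ((RefHull.dual F).presheaf.germ V x.1 x.2 p))
    refine ⟨W ⊓ V, ⟨hxW, x.2⟩, homOfLE inf_le_right,
      (Coh.structureModule X).presheaf.map (homOfLE inf_le_left).op n, fun y => ?_⟩
    refine sp_structure_injective y.1 ?_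
    rw [hL, TopCat.Presheaf.germ_res_apply, sp_germ _ _ y.2.1, gval, sp_germ _ _ y.2.2, sp_germ]
    refine Eq.trans ?_ (sp_germ _ x.1 hxW n)
    rw [hn, hL, gval, sp_germ _ _ x.2, sp_germ]
  let mk : ∀ (U : X.Opens), Γ(G, U) → Γ(RefHull.ddual F, U) := fun U m => ⟨fun y => L y.1 (G.presheaf.germ U y.1 y.2 m), hsec U m⟩
  have hD := QCohLib.isCoh_iff_isFP.mp (RefHullLib.isCoh_homSh hF (DepthSections.isCoh_structureModule (X := X)))
  have hev := fun x => Ref1.evalStalk_bijective (RefHull.dual F) (Coh.structureModule X) hD x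
  let e := fun x => LinearEquiv.ofBijective _ (hev x)
  have ext' : ∀ x (φ φ' : RefHull.StalkHom (RefHull.dual F) (Coh.structureModule X) x),
      (∀ θ, sp (Coh.structureModule X) x (φ θ) = sp (Coh.structureModule X) x (φ' θ)) → φ = φ' :=
    fun x φ φ' h => LinearMap.ext fun θ => sp_structure_injective x (h θ)
  let E : ∀ x : X, RefHull.StalkHom G (RefHull.ddual F) x := fun x => (e x).symm.toLinearMap.comp
    { toFun := L x
      map_add' := fun g g' => ext' x _ _ fun θ => by
        rw [hL, LinearMap.add_apply, map_add, hL, hL, gval, gval, gval, map_add, map_add, map_add]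
      map_smul' := fun a g => ext' x _ _ fun θ => by
        rw [hL, RingHom.id_apply, LinearMap.smul_apply, sp_smul, hL, gval, gval, sp_smul, map_smul, map_smul] }
  have he : ∀ U : X.Opens, RefHull.IsLocSect G (RefHull.ddual F) fun x : U => E x.1 := by
    intro U V i m x
    refine ⟨V, x.2, 𝟙 V, mk V m, fun y => ?_⟩
    refine (LinearEquiv.symm_apply_eq (e y.1)).mpr ?_
    exact (RefHull.evalStalk_germ (RefHull.dual F) (Coh.structureModule X) y.1 y.2 (mk V m)).symm
  obtain ⟨ψ, hψ⟩ := exists_hom_of_isLocSect E he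
  refine ⟨ψ, fun x g θ => ?_⟩
  rw [hψ]
  change sp _ x (e x ((e x).symm (L x g)) θ) = _
  rw [LinearEquiv.apply_symm_apply, hL]

end Extend

theorem main (hX : Pi1.IsNormalScheme X) (hF : Coh.IsCoh F) (G : X.Modules)
    (T : ↑(G.presheaf.stalk (genericPoint ↥X)) →ₗ[↑(X.presheaf.stalk (genericPoint ↥X))]
      ↑(F.presheaf.stalk (genericPoint ↥X))) :
    (∃ ψ : G ⟶ RefHull.ddual F, RefHull.stalkMapₗ ψ (genericPoint ↥X) =
        (RefHull.stalkMapₗ (RefHull.bidualMap F) (genericPoint ↥X)).comp T) ↔
      ∀ x : ↥X, ringKrullDim ↑(X.presheaf.stalk x) = 1 →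
        Set.MapsTo ⇑T (Set.range (sp G x)) (Set.range (sp F x)) := by
  have hcoh : ∀ x : X, ringKrullDim (X.presheaf.stalk x) = 1 ↔ Order.coheight x = 1 := fun x => by
    rw [ringKrullDim_stalk_eq_coheight]; exact_mod_cast Iff.rfl
  have hD := QCohLib.isCoh_iff_isFP.mp (RefHullLib.isCoh_homSh hF (DepthSections.isCoh_structureModule (X := X)))
  constructor
  · rintro ⟨ψ, hψ⟩ x hx _ ⟨g, rfl⟩
    haveI := isDVR hX ((hcoh x).mp hx)
    obtain ⟨u, hu⟩ := bidualAt_surjective hF x
      (RefHull.evalStalk (RefHull.dual F) (Coh.structureModule X) x (QCohLib.stalkHom ψ x g))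
    refine ⟨u, bidualAt_injective_generic hF ?_⟩
    rw [← RefHullLib.evalStalk_stalkHom_bidualMap, ← RefHullLib.evalStalk_stalkHom_bidualMap]
    congr 1
    have hw : QCohLib.stalkHom ψ x g = QCohLib.stalkHom (RefHull.bidualMap F) x u :=
      (Ref1.evalStalk_bijective _ _ hD x).1 ((RefHullLib.evalStalk_stalkHom_bidualMap F x u).trans hu).symm
    rw [← sp_stalkHom, ← hw, sp_stalkHom]
    exact (LinearMap.congr_fun hψ (sp G x g))
  · intro h
    obtain ⟨ψ, hψ⟩ := exists_hom hX hF T (fun y hy g => h y ((hcoh y).mpr hy) ⟨g, rfl⟩)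
    refine ⟨ψ, LinearMap.ext fun g => (Ref1.evalStalk_bijective _ _ hD (genericPoint ↥X)).1
      (LinearMap.ext fun θ => ?_)⟩
    have h1 := hψ (genericPoint ↥X) g θ
    rw [sp_generic, gval, sp_generic, sp_generic] at h1
    refine h1.trans ?_
    change _ = RefHull.evalStalk (RefHull.dual F) _ _ (QCohLib.stalkHom (RefHull.bidualMap F) _ (T g)) θ
    rw [RefHullLib.evalStalk_stalkHom_bidualMap, RefHull.bidualAt_apply]

end Groth.Agent.RefExtend
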